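import Groth.Agent.FormalSysLib.Right
import Groth.Agent.PullbackMod.Props

/-!
# Pullbacks of coherent formal modules, without Noetherian hypotheses
-/

set_option autoImplicit false

universe u

open CategoryTheory CategoryTheory.Limits AlgebraicGeometry TopologicalSpace Opposite
open Groth.Agent.CohBase Groth.Agent.ProjCoh Groth.Agent.QCohLib

noncomputable section

namespace Groth.Agent.FormalPullLib

variable {A : Type u} [CommRing A] {X : Scheme.{u}} [X.Over (Spec (CommRingCat.of A))] {I : Ideal A}

/-- Pullback commutes with multiplication by constants. -/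
theorem pullback_smulMod {Y : Scheme.{u}} [Y.Over (Spec (CommRingCat.of A))] (f : X ⟶ Y)
    (w : f ≫ Y ↘ Spec (CommRingCat.of A) = X ↘ Spec (CommRingCat.of A)) (M : Y.Modules) (a : A) :
    (Scheme.Modules.pullback f).map (Formal.smulMod A M a) =
      Formal.smulMod A ((Scheme.Modules.pullback f).obj M) a := by
  refine ((Scheme.Modules.pullbackPushforwardAdjunction f).homEquiv _ _).injective ?_
  rw [Adjunction.homEquiv_unit, Adjunction.homEquiv_unit, FormalLib.push_smulMod f w]
  exact ((Scheme.Modules.pullbackPushforwardAdjunction f).unit.naturality (Formal.smulMod A M a)).symm.trans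
    (FormalLib.smulMod_natural _ a)

/-- The components of a map killed by the family of multiplications. -/
theorem smulMod_comp_eq_zero {J : Ideal A} {M T : X.Modules} {t : M ⟶ T} (h : Formal.smulFamily J M ≫ t = 0) (a : ↥J) :
    Formal.smulMod A M a ≫ t = 0 := by
  rw [show Formal.smulMod A M a = Sigma.ι (fun _ : ↥J => M) a ≫ Formal.smulFamily J M by
    simp [Formal.smulFamily], Category.assoc, h, comp_zero]

/-- Pullbacks of coherent formal modules. -/
theorem isCohFormal_pullback {Y : Scheme.{u}} [Y.Over (Spec (CommRingCat.of A))]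
    (f : X ⟶ Y) (w : f ≫ Y ↘ Spec (CommRingCat.of A) = X ↘ Spec (CommRingCat.of A))
    {G : ℕᵒᵖ ⥤ Y.Modules} (hG : Formal.IsCohFormal I G) :
    Formal.IsCohFormal I (G ⋙ Scheme.Modules.pullback f) := by
  let adj := Scheme.Modules.pullbackPushforwardAdjunction f
  refine ⟨fun n => PullbackMod.isCoh_pullback f _ (hG.1 n), fun n a ha => ?_, fun n => ?_⟩
  · show Formal.smulMod A ((Scheme.Modules.pullback f).obj (G.obj (op n))) a = 0
    rw [← pullback_smulMod f w, hG.2.1 n a ha]
    exact Functor.map_zero _ _ _
  · obtain ⟨h, hiso⟩ := hG.2.2 n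
    set J := I ^ (n + 1)
    let g := G.map (homOfLE (Nat.le_succ n)).op
    have hga : ∀ a : ↥J, Formal.smulMod A (G.obj (op (n + 1))) a ≫ g = 0 := smulMod_comp_eq_zero h
    have h' : Formal.smulFamily J ((Scheme.Modules.pullback f).obj (G.obj (op (n + 1)))) ≫
        (Scheme.Modules.pullback f).map g = 0 := by
      refine Sigma.hom_ext _ _ fun a => ?_
      rw [comp_zero, ← Category.assoc, Formal.smulFamily, Sigma.ι_desc, ← pullback_smulMod f w, ← Functor.map_comp,
        hga, Functor.map_zero]
    have hfac : ∀ (T : X.Modules) (t : (Scheme.Modules.pullback f).obj (G.obj (op (n + 1))) ⟶ T),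
        (∀ a : ↥J, Formal.smulMod A _ a ≫ t = 0) → ∃ l, (Scheme.Modules.pullback f).map g ≫ l = t := by
      intro T t ht
      have h2 : Formal.smulFamily J (G.obj (op (n + 1))) ≫ adj.homEquiv _ _ t = 0 := by
        refine Sigma.hom_ext _ _ fun a => ?_
        rw [comp_zero, ← Category.assoc, Formal.smulFamily, Sigma.ι_desc, ← adj.homEquiv_naturality_left]
        rw [show (Scheme.Modules.pullback f).map (Formal.smulMod A (G.obj (op (n + 1))) (a : A)) ≫ t = 0 from by
          rw [pullback_smulMod f w]; exact ht a]
        rw [Adjunction.homEquiv_unit, Functor.map_zero, comp_zero]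
      let l0 : G.obj (op n) ⟶ (Scheme.Modules.pushforward f).obj T :=
        @inv _ _ _ _ (cokernel.desc _ g h) hiso ≫ cokernel.desc _ _ h2
      have hl0 : g ≫ l0 = adj.homEquiv _ _ t := by
        have e : g = cokernel.π (Formal.smulFamily J (G.obj (op (n + 1)))) ≫ cokernel.desc _ g h :=
          (cokernel.π_desc _ _ _).symm
        simp only [l0]
        conv_lhs => arg 1; rw [e]
        rw [Category.assoc, IsIso.hom_inv_id_assoc, cokernel.π_desc]
      refine ⟨(adj.homEquiv _ _).symm l0, ?_⟩
      rw [← adj.homEquiv_naturality_left_symm, hl0, Equiv.symm_apply_apply]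
    haveI : IsIso (cokernel.desc _ g h) := hiso
    haveI : Epi g := by
      rw [show g = cokernel.π (Formal.smulFamily J (G.obj (op (n + 1)))) ≫ cokernel.desc _ g h from
        (cokernel.π_desc _ _ _).symm]
      have : Epi (cokernel.desc _ g h) := @IsIso.epi_of_iso _ _ _ _ _ (hiso :)
      exact epi_comp' coequalizer.π_epi this
    haveI : PreservesColimitsOfSize.{0, 0} (Scheme.Modules.pullback f) := adj.leftAdjoint_preservesColimits
    haveI : Epi ((Scheme.Modules.pullback f).map g) := Functor.map_epi _ g
    obtain ⟨l, hl⟩ := hfac _ (cokernel.π (Formal.smulFamily J ((Scheme.Modules.pullback f).obj (G.obj (op (n + 1))))))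
      (smulMod_comp_eq_zero (cokernel.condition _))
    refine ⟨h', ⟨l, coequalizer.hom_ext ?_, ?_⟩⟩
    · show cokernel.π _ ≫ cokernel.desc _ _ h' ≫ l = cokernel.π _ ≫ 𝟙 _
      rw [cokernel.π_desc_assoc, hl, Category.comp_id]
    · refine (cancel_epi ((Scheme.Modules.pullback f).map g)).1 ?_
      exact (Category.assoc _ _ _).symm.trans ((congrArg (· ≫ cokernel.desc _ _ h') hl).trans
        ((cokernel.π_desc _ _ _).trans (Category.comp_id _).symm))

end Groth.Agent.FormalPullLib
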